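import Groth.Agent.EGA41Lib.QuasiRegular
import Mathlib

/-!
# A local ring all of whose jets lift is regular
-/

set_option autoImplicit false

universe u

open IsLocalRing Polynomial

noncomputable section

namespace Groth.Agent.JetLib29

variable (k : Type u) [Field k]

/-- `k[X]/(X^l)`. -/
abbrev Jet (l : ℕ) : Type u := k[X] ⧸ Ideal.span {(X : k[X]) ^ l}

/-- Truncation. -/
abbrev trunc (l : ℕ) : Jet k (l + 1) →ₐ[k] Jet k l :=
  Ideal.Quotient.factorₐ k (Ideal.span_singleton_le_span_singleton.mpr (pow_dvd_pow (X : k[X]) (Nat.le_succ l)))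

/-- The augmentation of jets. -/
def jetRes (l : ℕ) (hl : l ≠ 0) : Jet k l →ₐ[k] k :=
  Ideal.Quotient.liftₐ _ (Polynomial.aeval (0 : k)) (fun p hp => by
    obtain ⟨q, rfl⟩ := Ideal.mem_span_singleton'.1 hp
    simp [zero_pow hl])

theorem jetRes_mk (l : ℕ) (hl : l ≠ 0) (p : k[X]) : jetRes k l hl (Ideal.Quotient.mk _ p) = p.coeff 0 := by
  show Polynomial.aeval (0 : k) p = _
  rw [Polynomial.coe_aeval_eq_eval, Polynomial.coeff_zero_eq_eval_zero]

variable {k} {R : Type u} [CommRing R] [IsLocalRing R] [Algebra k R]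

theorem map_mem_ker {B : Type*} [CommRing B] [Algebra k B] (ρ : B →ₐ[k] k) (φ : R →ₐ[k] B) {r : R}
    (hr : r ∈ maximalIdeal R) : ρ (φ r) = 0 := by
  by_contra hc
  have hu : IsUnit (r - algebraMap k R (ρ (φ r))) := by
    refine IsLocalRing.notMem_maximalIdeal.1 fun h => ?_
    have h1 := sub_mem hr h
    rw [sub_sub_cancel] at h1
    exact ((maximalIdeal.isMaximal R).ne_top) (Ideal.eq_top_of_isUnit_mem _ h1 ((isUnit_iff_ne_zero.2 hc).map _))
  have h2 := hu.map (ρ.comp φ)
  simp only [map_sub, AlgHom.commutes, AlgHom.comp_apply, Algebra.algebraMap_self, RingHom.id_apply, sub_self] at h2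
  exact not_isUnit_zero h2

theorem mk_X_dvd {l : ℕ} (hl : l ≠ 0) {b : Jet k l} (hb : jetRes k l hl b = 0) :
    b ∈ Ideal.span {Ideal.Quotient.mk (Ideal.span {(X : k[X]) ^ l}) X} := by
  obtain ⟨p, rfl⟩ := Ideal.Quotient.mk_surjective b
  rw [jetRes_mk] at hb
  obtain ⟨q, rfl⟩ := Polynomial.X_dvd_iff.2 hb
  rw [map_mul]
  exact Ideal.mul_mem_right _ _ (Ideal.subset_span rfl)

theorem map_le_span_X {l : ℕ} (hl : l ≠ 0) (φ : R →ₐ[k] Jet k l) :
    (maximalIdeal R).map φ ≤ Ideal.span {Ideal.Quotient.mk (Ideal.span {(X : k[X]) ^ l}) X} :=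
  Ideal.map_le_iff_le_comap.2 fun _ hr => mk_X_dvd hl (map_mem_ker _ φ hr)

variable (hres : ∀ r : R, ∃ c : k, r - algebraMap k R c ∈ maximalIdeal R)
include hres

theorem exists_char : ∃ χ : R →ₐ[k] k, ∀ r : R, χ r = 0 ↔ r ∈ maximalIdeal R := by
  have hb : Function.Bijective (Algebra.ofId k (ResidueField R)) := by
    refine ⟨(algebraMap k (ResidueField R)).injective, fun z => ?_⟩
    obtain ⟨r, rfl⟩ := Ideal.Quotient.mk_surjective z
    obtain ⟨c, hc⟩ := hres r
    exact ⟨c, ((Ideal.Quotient.eq).2 hc).symm⟩
  let e := AlgEquiv.ofBijective (Algebra.ofId k (ResidueField R)) hb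
  refine ⟨e.symm.toAlgHom.comp (IsScalarTower.toAlgHom k R (ResidueField R)), fun r => ?_⟩
  show e.symm (residue R r) = 0 ↔ _
  rw [map_eq_zero_iff _ e.symm.injective, IsLocalRing.residue_eq_zero_iff]

omit hres in
theorem eval₂_mul_left {A B : Type*} [CommRing A] [CommRing B] {n d : ℕ} (f : A →+* B) (x : B) (u : Fin n → B)
    (P : MvPolynomial (Fin n) A) (hP : P.IsHomogeneous d) :
    MvPolynomial.eval₂ f (fun i => x * u i) P = x ^ d * MvPolynomial.eval₂ f u P := by
  rw [MvPolynomial.eval₂_eq', MvPolynomial.eval₂_eq', Finset.mul_sum]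
  refine Finset.sum_congr rfl fun δ hδ => ?_
  have hd : ∑ i, δ i = d := by
    have := hP (MvPolynomial.mem_support_iff.1 hδ)
    simpa [Finsupp.weight_apply, Finsupp.sum_fintype] using this
  simp only [mul_pow, Finset.prod_mul_distrib, Finset.prod_pow_eq_pow_sum, hd]
  ring

theorem isRegularLocalRing_of_jets_lift [Infinite k] [IsNoetherianRing R]
    (hlift : ∀ l : ℕ, 1 ≤ l → ∀ φ : R →ₐ[k] Jet k l, ∃ ψ : R →ₐ[k] Jet k (l + 1), (trunc k l).comp ψ = φ) :
    IsRegularLocalRing R := by
  classical
  obtain ⟨χ, hχ⟩ := exists_char hres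
  obtain ⟨t, ht, htspan⟩ := Submodule.FG.exists_span_finset_card_eq_spanFinrank (IsNoetherian.noetherian (maximalIdeal R))
  let n := t.card
  let y : Fin n → R := fun i => (t.equivFin.symm i : R)
  have hy : Ideal.span (Set.range y) = maximalIdeal R := by
    rw [show Set.range y = (t : Set R) from ?_]
    · exact htspan
    · ext a
      exact ⟨fun ⟨i, hi⟩ => hi ▸ (t.equivFin.symm i).2, fun ha => ⟨t.equivFin ⟨a, ha⟩, by simp [y]⟩⟩
  have hym : ∀ i, y i ∈ maximalIdeal R := fun i => hy ▸ Ideal.subset_span ⟨i, rfl⟩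
  let ybar : Fin n → CotangentSpace R := fun i => (maximalIdeal R).toCotangent ⟨y i, hym i⟩
  have hspan : ⊤ ≤ Submodule.span (ResidueField R) (Set.range ybar) := by
    have h1 : Submodule.span R (Set.range fun i => (⟨y i, hym i⟩ : maximalIdeal R)) = ⊤ := by
      apply Submodule.map_injective_of_injective (f := (maximalIdeal R).subtype) Subtype.val_injective
      rw [Submodule.map_span, ← Set.range_comp, Submodule.map_top, Submodule.range_subtype]
      exact hy
    have h2 := (CotangentSpace.span_image_eq_top_iff (R := R)).2 h1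
    rw [← Set.range_comp] at h2
    exact h2.ge
  have hcard : Fintype.card (Fin n) = Module.finrank (ResidueField R) (CotangentSpace R) := by
    rw [Fintype.card_fin, ← IsLocalRing.spanFinrank_maximalIdeal_eq_finrank_cotangentSpace]
    exact ht
  let b := basisOfTopLeSpanOfCardEqFinrank ybar hspan hcard
  have htangent : ∀ v : Fin n → k, ∀ l : ℕ, ∃ φ : R →ₐ[k] Jet k (l + 2),
      ∀ i, ∃ q : k[X], φ (y i) = Ideal.Quotient.mk _ (C (v i) * X + X ^ 2 * q) := by
    intro v l
    induction l with
    | zero =>
      let ξ : CotangentSpace R →ₗ[ResidueField R] ResidueField R :=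
        b.constr (ResidueField R) fun i => residue R (algebraMap k R (v i))
      let pr : R → maximalIdeal R := fun r => ⟨r - algebraMap k R (χ r), (hχ _).1 (by simp)⟩
      let ψ : R → ResidueField R := fun r => ξ ((maximalIdeal R).toCotangent (pr r))
      have hb : Function.Bijective (algebraMap k (ResidueField R)) := by
        refine ⟨(algebraMap k (ResidueField R)).injective, fun z => ?_⟩
        obtain ⟨r, rfl⟩ := Ideal.Quotient.mk_surjective z
        obtain ⟨c, hc⟩ := hres r
        exact ⟨c, ((Ideal.Quotient.eq).2 hc).symm⟩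
      let ek := RingEquiv.ofBijective _ hb
      let δ : R → k := fun r => ek.symm (ψ r)
      have hψmul : ∀ r s, ψ (r * s) = algebraMap k _ (χ r) * ψ s + algebraMap k _ (χ s) * ψ r := by
        intro r s
        have hsq : (maximalIdeal R).toCotangent (pr (r * s)) =
            algebraMap k R (χ r) • (maximalIdeal R).toCotangent (pr s) +
              algebraMap k R (χ s) • (maximalIdeal R).toCotangent (pr r) := by
          rw [← map_smul, ← map_smul, ← map_add, Ideal.toCotangent_eq]
          have : ((pr (r * s) : R) - ((algebraMap k R (χ r) • pr s + algebraMap k R (χ s) • pr r : maximalIdeal R) : R)) =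
              (pr r : R) * (pr s : R) := by
            simp only [pr, map_mul, Submodule.coe_add, Submodule.coe_smul, smul_eq_mul]
            ring
          rw [this, pow_two]
          exact Ideal.mul_mem_mul (pr r).2 (pr s).2
        simp only [ψ, hsq, map_add]
        rw [← IsScalarTower.algebraMap_smul (ResidueField R) (algebraMap k R (χ r)),
          ← IsScalarTower.algebraMap_smul (ResidueField R) (algebraMap k R (χ s)), map_smul, map_smul,
          smul_eq_mul, smul_eq_mul, ← IsScalarTower.algebraMap_apply k R (ResidueField R),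
          ← IsScalarTower.algebraMap_apply k R (ResidueField R)]
      have hδmul : ∀ r s, δ (r * s) = χ r * δ s + χ s * δ r := by
        intro r s
        apply ek.injective
        simp only [δ, map_add, map_mul, RingEquiv.apply_symm_apply]
        exact hψmul r s
      have hδadd : ∀ r s, δ (r + s) = δ r + δ s := by
        intro r s
        simp only [δ, ψ, ← map_add]
        congr 4
        exact Subtype.ext (by simp only [pr, map_add, Submodule.coe_add]; ring)
      have hδC : ∀ c : k, δ (algebraMap k R c) = 0 := by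
        intro c
        simp only [δ, ψ]
        rw [show pr (algebraMap k R c) = 0 from Subtype.ext (by simp [pr]), map_zero, map_zero, map_zero]
      let F : R → Jet k 2 := fun r => Ideal.Quotient.mk _ (C (χ r) + C (δ r) * X)
      refine ⟨{ toFun := F, map_one' := ?_, map_mul' := ?_, map_zero' := ?_, map_add' := ?_, commutes' := ?_ }, fun i => ⟨0, ?_⟩⟩
      · show F 1 = 1
        have h1 : δ 1 = 0 := by simpa using hδC 1
        simp [F, h1]
      · intro r s
        show F (r * s) = F r * F s
        simp only [F, hδmul, map_mul, map_add]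
        rw [← map_mul (Ideal.Quotient.mk _), ← map_mul (Ideal.Quotient.mk _), ← map_mul (Ideal.Quotient.mk _)]
        simp only [← map_add, ← map_mul]
        refine Ideal.Quotient.eq.2 (Ideal.mem_span_singleton'.2 ⟨-(C (δ r) * C (δ s)), ?_⟩)
        simp only [map_add, map_mul]
        ring
      · show F 0 = 0
        have h0 : δ 0 = 0 := by simpa using hδC 0
        simp [F, h0]
      · intro r s
        show F (r + s) = F r + F s
        simp only [F, hδadd]
        rw [← map_add (Ideal.Quotient.mk (Ideal.span {(X : k[X]) ^ 2}))]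
        congr 1
        simp only [map_add]
        ring
      · intro c
        show F (algebraMap k R c) = algebraMap k (Jet k 2) c
        have h1 : χ (algebraMap k R c) = c := AlgHom.commutes χ c
        simp only [F, hδC, h1]
        rw [map_zero, zero_mul, add_zero]
        rfl
      · show F (y i) = _
        have h1 : χ (y i) = 0 := (hχ _).2 (hym i)
        have h2 : δ (y i) = v i := by
          apply ek.injective
          simp only [δ, RingEquiv.apply_symm_apply, ψ]
          rw [show pr (y i) = ⟨y i, hym i⟩ from Subtype.ext (by simp [pr, h1])]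
          show ξ (ybar i) = _
          rw [show ybar i = b i from (congrFun (coe_basisOfTopLeSpanOfCardEqFinrank ybar hspan hcard) i).symm,
            Module.Basis.constr_basis]
          rfl
        simp [F, h1, h2]
    | succ l ih =>
      obtain ⟨φ, hφ⟩ := ih
      obtain ⟨ψ, hψ⟩ := hlift (l + 2) (by omega) φ
      refine ⟨ψ, fun i => ?_⟩
      obtain ⟨q, hq⟩ := hφ i
      obtain ⟨p, hp⟩ := Ideal.Quotient.mk_surjective (ψ (y i))
      have h1 : Ideal.Quotient.mk (Ideal.span {(X : k[X]) ^ (l + 2)}) p =
          Ideal.Quotient.mk _ (C (v i) * X + X ^ 2 * q) := by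
        rw [← hq, ← hψ, AlgHom.comp_apply, ← hp]
        rfl
      obtain ⟨s, hs⟩ := Ideal.mem_span_singleton'.1 (Ideal.Quotient.eq.1 h1)
      refine ⟨q + X ^ l * s, ?_⟩
      rw [← hp]
      congr 1
      linear_combination (-1 : k[X]) * hs
  have hqr : CAlgX.IsQuasiRegular y := by
    intro d P hP hev δ₀
    rw [hy] at hev ⊢
    have hP0 : MvPolynomial.map χ.toRingHom P = 0 := by
      refine (hP.map χ.toRingHom).eq_zero_of_forall_eval_eq_zero fun v => ?_
      obtain ⟨φ, hφ⟩ := htangent v d
      choose q hq using hφ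
      let x : Jet k (d + 2) := Ideal.Quotient.mk _ X
      let w : Fin n → Jet k (d + 2) := fun i => Ideal.Quotient.mk _ (C (v i) + X * q i)
      have hxw : ∀ i, φ (y i) = x * w i := fun i => by
        rw [hq, ← map_mul]
        congr 1
        ring
      have h1 : φ (MvPolynomial.eval y P) ∈ Ideal.span {x} ^ (d + 1) :=
        Ideal.pow_right_mono (map_le_span_X (by omega) φ) (d + 1)
          (Ideal.map_pow φ (maximalIdeal R) (d + 1) ▸ Ideal.mem_map_of_mem φ hev)
      rw [MvPolynomial.eval, MvPolynomial.coe_eval₂Hom] at h1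
      have h2 : φ (MvPolynomial.eval₂ (RingHom.id R) y P) = x ^ d * MvPolynomial.eval₂ φ.toRingHom w P := by
        show φ.toRingHom _ = _
        rw [MvPolynomial.eval₂_comp_left, RingHom.comp_id, show φ.toRingHom ∘ y = fun i => x * w i from funext hxw,
          eval₂_mul_left _ x w P hP]
      rw [h2, Ideal.span_singleton_pow, Ideal.mem_span_singleton'] at h1
      obtain ⟨a, ha⟩ := h1
      obtain ⟨p, hp⟩ := Ideal.Quotient.mk_surjective (MvPolynomial.eval₂ φ.toRingHom w P)
      obtain ⟨a', rfl⟩ := Ideal.Quotient.mk_surjective a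
      rw [← hp, ← map_pow, ← map_pow, ← map_mul, ← map_mul, Ideal.Quotient.eq, Ideal.mem_span_singleton'] at ha
      obtain ⟨e, he⟩ := ha
      have hp0 : p.coeff 0 = 0 := by
        have h3 : X ^ d * p = X ^ d * (X * (a' - X * e)) := by linear_combination he
        rw [mul_left_cancel₀ (pow_ne_zero d Polynomial.X_ne_zero) h3, Polynomial.mul_coeff_zero, Polynomial.coeff_X_zero, zero_mul]
      rw [← jetRes_mk k (d + 2) (by omega) p, hp] at hp0
      show MvPolynomial.eval v (MvPolynomial.map χ.toRingHom P) = 0
      rw [MvPolynomial.eval_map]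
      refine Eq.trans ?_ hp0
      show _ = (jetRes k (d + 2) (by omega)).toRingHom _
      rw [MvPolynomial.eval₂_comp_left]
      congr 1
      · refine RingHom.ext fun r => ?_
        show χ r = jetRes k (d + 2) (by omega) (φ r)
        have h5 := map_mem_ker (jetRes k (d + 2) (by omega)) φ ((hχ (r - algebraMap k R (χ r))).1 (by simp))
        simp only [map_sub, AlgHom.commutes, sub_eq_zero] at h5
        rw [h5]
        rfl
      · funext i
        show v i = jetRes k (d + 2) _ (Ideal.Quotient.mk _ _)
        rw [jetRes_mk]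
        simp
    have h6 := congrArg (fun Q => MvPolynomial.coeff δ₀ Q) hP0
    simp only [MvPolynomial.coeff_map, MvPolynomial.coeff_zero] at h6
    exact (hχ _).1 h6
  have hweak := EGA41Lib.isWeaklyRegular_of_isQuasiRegular n R y (fun i m hm => by
    rw [IsLocalRing.eq_maximalIdeal hm]; exact hym i) hqr
  have hol : Ideal.ofList (List.ofFn y) = maximalIdeal R := by
    rw [Ideal.ofList, ← hy]
    congr 1
    ext a
    simp [List.mem_ofFn]
  have hreg : RingTheory.Sequence.IsRegular R (List.ofFn y) := by
    refine ⟨hweak, ?_⟩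
    rw [hol, Ideal.smul_top_eq_map, Algebra.algebraMap_self, Ideal.map_id]
    exact fun h => (maximalIdeal.isMaximal R).ne_top (h.symm.trans rfl)
  have hdim := Module.supportDim_add_length_eq_supportDim_of_isRegular (List.ofFn y) hreg
  rw [List.length_ofFn, Module.supportDim_self_eq_ringKrullDim] at hdim
  refine IsRegularLocalRing.of_spanFinrank_maximalIdeal_le (R := R) ?_
  rw [← ht, ← hdim]
  have hne : Nontrivial (R ⧸ Ideal.ofList (List.ofFn y) • (⊤ : Submodule R R)) := by
    rw [Submodule.Quotient.nontrivial_iff]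
    exact Ne.symm hreg.top_ne_smul
  have h0 := Module.supportDim_ne_bot_of_nontrivial R (R ⧸ Ideal.ofList (List.ofFn y) • (⊤ : Submodule R R))
  obtain ⟨D, hD⟩ := WithBot.ne_bot_iff_exists.1 h0
  rw [← hD]
  exact_mod_cast le_add_self

end Groth.Agent.JetLib29
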