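import Groth.Agent.JetLib29.Basic
import Groth.Agent.AlgSpLib.SmoothField

/-!
# Jets at a closed point of an affine variety
-/

set_option autoImplicit false

universe u

open IsLocalRing Polynomial

noncomputable section

namespace Groth.Agent.JetLib29

theorem isRegularLocalRing_iff_jets_lift (k : Type u) [Field k] [IsAlgClosed k]
    (A : Type u) [CommRing A] [Algebra k A] [Algebra.FiniteType k A] (m : Ideal A) [m.IsMaximal] :
    IsRegularLocalRing (Localization.AtPrime m) ↔
      ∀ (l : ℕ), 1 ≤ l → ∀ (φ : A →ₐ[k] Jet k l), (∀ a ∈ m, IsNilpotent (φ a)) →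
        ∃ ψ : A →ₐ[k] Jet k (l + 1), (trunc k l).comp ψ = φ := by
  letI := Ideal.Quotient.field m
  have hb : Function.Bijective (algebraMap k (A ⧸ m)) := by
    haveI : Algebra.FiniteType k (A ⧸ m) := inferInstance
    haveI : Module.Finite k (A ⧸ m) := finite_of_finite_type_of_isJacobsonRing k (A ⧸ m)
    exact IsAlgClosed.algebraMap_bijective_of_isIntegral
  let R := Localization.AtPrime m
  have hA : ∀ a : A, ∃ c : k, a - algebraMap k A c ∈ m := fun a => by
    obtain ⟨c, hc⟩ := hb.2 (Ideal.Quotient.mk m a)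
    exact ⟨c, Ideal.Quotient.eq.1 hc.symm⟩
  have hunit : ∀ {B : Type u} [CommRing B] [Algebra k B] (φ : A →ₐ[k] B), (∀ a ∈ m, IsNilpotent (φ a)) →
      ∀ s : m.primeCompl, IsUnit (φ s) := by
    intro B _ _ φ hφ s
    obtain ⟨c, hc⟩ := hA s
    have hc0 : c ≠ 0 := fun h => s.2 (by simpa [h] using hc)
    rw [show φ s = φ (algebraMap k A c) + φ ((s : A) - algebraMap k A c) by rw [← map_add, add_sub_cancel]]
    refine IsNilpotent.isUnit_add_left_of_commute (hφ _ hc) ?_ (Commute.all _ _)
    exact ((isUnit_iff_ne_zero.2 hc0).map (algebraMap k A)).map φ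
  constructor
  · intro hreg l _ φ hφ
    haveI : Algebra.FormallySmooth k R := (AlgSpLib.SmoothField.isSmoothAt_iff_regular k A m).2 hreg
    let φ' : R →ₐ[k] Jet k l := IsLocalization.liftAlgHom (M := m.primeCompl) (f := φ) (hunit φ hφ)
    have hsurj : Function.Surjective (trunc k l) := Ideal.Quotient.factor_surjective
      (Ideal.span_singleton_le_span_singleton.mpr (pow_dvd_pow (X : k[X]) (Nat.le_succ l)))
    have hnil : IsNilpotent (RingHom.ker (trunc k l : Jet k (l + 1) →+* Jet k l)) := by
      refine ⟨l + 1, ?_⟩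
      have hker : RingHom.ker (trunc k l : Jet k (l + 1) →+* Jet k l) ≤
          Ideal.span {Ideal.Quotient.mk (Ideal.span {(X : k[X]) ^ (l + 1)}) (X ^ l)} := by
        intro z hz
        obtain ⟨p, rfl⟩ := Ideal.Quotient.mk_surjective z
        obtain ⟨q, rfl⟩ := Ideal.mem_span_singleton'.1 (Ideal.Quotient.eq_zero_iff_mem.1
          (show Ideal.Quotient.mk (Ideal.span {(X : k[X]) ^ l}) p = 0 from hz))
        rw [map_mul]
        exact Ideal.mul_mem_left _ _ (Ideal.subset_span rfl)
      rw [Ideal.zero_eq_bot, eq_bot_iff]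
      refine (Ideal.pow_right_mono hker (l + 1)).trans ?_
      rw [Ideal.span_singleton_pow, Ideal.span_le, Set.singleton_subset_iff, ← map_pow, ← pow_mul]
      refine Ideal.Quotient.eq_zero_iff_mem.2 (Ideal.mem_span_singleton.2 (pow_dvd_pow _ ?_))
      rcases Nat.eq_zero_or_pos l with rfl | hl
      · omega
      · exact Nat.le_mul_of_pos_left _ hl
    refine ⟨(Algebra.FormallySmooth.liftOfSurjective φ' _ hsurj hnil).comp (IsScalarTower.toAlgHom k A R), ?_⟩
    refine AlgHom.ext fun a => ?_
    show trunc k l (Algebra.FormallySmooth.liftOfSurjective φ' _ hsurj hnil (algebraMap A R a)) = φ a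
    rw [Algebra.FormallySmooth.liftOfSurjective_apply]
    exact IsLocalization.lift_eq (hunit φ hφ) a
  · intro h
    haveI : Infinite k := IsAlgClosed.instInfinite
    haveI : IsNoetherianRing A := Algebra.FiniteType.isNoetherianRing k A
    haveI : IsNoetherianRing R := IsLocalization.isNoetherianRing m.primeCompl R inferInstance
    have hR : ∀ a ∈ m, algebraMap A R a ∈ maximalIdeal R := fun a ha =>
      (IsLocalization.AtPrime.to_map_mem_maximal_iff R m a).2 ha
    refine isRegularLocalRing_of_jets_lift (k := k) (R := R) ?_ ?_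
    · intro r
      obtain ⟨⟨a, s⟩, hs⟩ := IsLocalization.surj m.primeCompl r
      obtain ⟨ca, hca⟩ := hA a
      obtain ⟨cs, hcs⟩ := hA s
      have hcs0 : cs ≠ 0 := fun h => s.2 (by simpa [h] using hcs)
      refine ⟨ca / cs, (Ideal.IsPrime.mem_or_mem inferInstance (x := algebraMap A R s) ?_).resolve_left
        fun h => s.2 ((IsLocalization.AtPrime.to_map_mem_maximal_iff R m (s : A)).1 h)⟩
      rw [mul_sub, mul_comm _ r, hs, IsScalarTower.algebraMap_apply k A R, ← map_mul, ← map_sub]
      refine hR _ ?_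
      have : (a : A) - (s : A) * algebraMap k A (ca / cs) =
          (a - algebraMap k A ca) - ((s : A) - algebraMap k A cs) * algebraMap k A (ca / cs) := by
        rw [sub_mul, ← map_mul, mul_div_cancel₀ _ hcs0]
        ring
      rw [this]
      exact sub_mem hca (Ideal.mul_mem_right _ _ hcs)
    · intro l hl φ
      have hnilA : ∀ {n : ℕ}, n ≠ 0 → ∀ (χ : R →ₐ[k] Jet k n), ∀ a ∈ m, IsNilpotent (χ (algebraMap A R a)) := by
        intro n hn χ a ha
        obtain ⟨b, hb⟩ := Ideal.mem_span_singleton'.1 (map_le_span_X hn χ (Ideal.mem_map_of_mem χ (hR a ha)))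
        rw [← hb]
        exact Commute.isNilpotent_mul_left (Commute.all _ _)
          ⟨n, by rw [← map_pow, Ideal.Quotient.eq_zero_iff_mem]; exact Ideal.subset_span rfl⟩
      obtain ⟨ψ, hψ⟩ := h l hl (φ.comp (IsScalarTower.toAlgHom k A R)) (fun a ha => hnilA (by omega) φ a ha)
      have hψn : ∀ a ∈ m, IsNilpotent (ψ a) := by
        intro a ha
        obtain ⟨N, hN⟩ := hnilA (by omega) φ a ha
        obtain ⟨p, hp⟩ := Ideal.Quotient.mk_surjective (ψ a)
        have h1 : Ideal.Quotient.mk (Ideal.span {(X : k[X]) ^ l}) p = φ (algebraMap A R a) := by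
          refine Eq.trans ?_ (DFunLike.congr_fun hψ a)
          show _ = trunc k l (ψ a)
          rw [← hp]; rfl
        rw [← h1, ← map_pow, Ideal.Quotient.eq_zero_iff_mem, Ideal.mem_span_singleton] at hN
        refine ⟨N * 2, ?_⟩
        rw [← hp, ← map_pow, Ideal.Quotient.eq_zero_iff_mem, Ideal.mem_span_singleton, pow_mul]
        exact (pow_dvd_pow X (show l + 1 ≤ l * 2 by omega)).trans (pow_mul (X : k[X]) l 2 ▸ pow_dvd_pow_of_dvd hN 2)
      refine ⟨IsLocalization.liftAlgHom (M := m.primeCompl) (f := ψ) (hunit ψ hψn), ?_⟩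
      refine AlgHom.coe_ringHom_injective (IsLocalization.ringHom_ext m.primeCompl (RingHom.ext fun a => ?_))
      show trunc k l (IsLocalization.liftAlgHom (M := m.primeCompl) (f := ψ) (hunit ψ hψn) (algebraMap A R a)) = φ (algebraMap A R a)
      rw [show IsLocalization.liftAlgHom (M := m.primeCompl) (f := ψ) (hunit ψ hψn) (algebraMap A R a) = ψ a from
        IsLocalization.lift_eq (hunit ψ hψn) a]
      exact DFunLike.congr_fun hψ a

end Groth.Agent.JetLib29
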