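import Groth.Agent.JetLib29.Basic
import Groth.Agent.CAlgH.RegularPowerSeries
import Groth.Agent.CAlgH.PowerSeriesEval
import Groth.Agent.CAlgH3.CompleteHom
import Groth.Agent.CommAlg6.CompletedKaehlerRank
import Groth.Agent.ArtFunLib.PowerSeriesVersal
import Groth.Prelude.Def_ArtFun2

/-!
# The T¹-lifting criterion for power series rings in characteristic zero
-/

set_option autoImplicit false

universe u

open IsLocalRing Polynomial TrivSqZeroExt

noncomputable section

namespace Groth.Agent.JetLib29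

variable (k : Type u) [Field k]

theorem finite_jet (l : ℕ) : Module.Finite k (Jet k l) :=
  (Polynomial.monic_X_pow l).finite_quotient

theorem jetRes_surjective (l : ℕ) (hl : l ≠ 0) : Function.Surjective (jetRes k l hl) := fun c =>
  ⟨algebraMap k _ c, AlgHom.commutes _ c⟩

theorem isLocalRing_jet (l : ℕ) (hl : l ≠ 0) : IsLocalRing (Jet k l) := by
  haveI : Nontrivial (Jet k l) := (jetRes k l hl).toRingHom.domain_nontrivial
  refine IsLocalRing.of_isUnit_or_isUnit_one_sub_self fun a => ?_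
  have hn : ∀ b : Jet k l, jetRes k l hl b ≠ 0 → IsUnit b := by
    intro b hb
    have h1 : jetRes k l hl (b - algebraMap k _ (jetRes k l hl b)) = 0 := by simp
    obtain ⟨c, hc⟩ := Ideal.mem_span_singleton'.1 (mk_X_dvd hl h1)
    rw [show b = algebraMap k _ (jetRes k l hl b) + c * Ideal.Quotient.mk _ X by rw [hc, add_sub_cancel]]
    refine IsNilpotent.isUnit_add_left_of_commute (Commute.isNilpotent_mul_left (Commute.all _ _)
      ⟨l, by rw [← map_pow, Ideal.Quotient.eq_zero_iff_mem]; exact Ideal.subset_span rfl⟩) ?_ (Commute.all _ _)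
    exact (isUnit_iff_ne_zero.2 hb).map _
  by_cases h : jetRes k l hl a = 0
  · exact Or.inr (hn _ (by simp [h]))
  · exact Or.inl (hn a h)

/-- A polynomial with its derivative. -/
def polyDer (n : ℕ) : k[X] →ₐ[k] TrivSqZeroExt (Jet k n) (Jet k n) where
  toFun p := inl (Ideal.Quotient.mk _ p) + inr (Ideal.Quotient.mk _ (derivative p))
  map_one' := by ext <;> simp
  map_zero' := by ext <;> simp
  map_add' p q := by ext <;> simp
  map_mul' p q := by
    ext
    · simp
    · simp [derivative_mul, smul_eq_mul]; ring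
  commutes' c := by
    ext
    · simp [TrivSqZeroExt.algebraMap_eq_inl']; rfl
    · simp [TrivSqZeroExt.algebraMap_eq_inl']

theorem polyDer_apply (n : ℕ) (p : k[X]) :
    polyDer k n p = inl (Ideal.Quotient.mk _ p) + inr (Ideal.Quotient.mk _ (derivative p)) := rfl

theorem mk_X_pow_self (n : ℕ) : Ideal.Quotient.mk (Ideal.span {(X : k[X]) ^ n}) (X ^ n) = 0 :=
  Ideal.Quotient.eq_zero_iff_mem.2 (Ideal.subset_span rfl)

/-- Jets of order `n + 1` inside first order deformations of jets of order `n`. -/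
def jetDer (n : ℕ) : Jet k (n + 1) →ₐ[k] TrivSqZeroExt (Jet k n) (Jet k n) :=
  Ideal.Quotient.liftₐ _ (polyDer k n) fun p hp => by
    obtain ⟨q, rfl⟩ := Ideal.mem_span_singleton'.1 hp
    rw [polyDer_apply]
    have h1 : Ideal.Quotient.mk (Ideal.span {(X : k[X]) ^ n}) (q * X ^ (n + 1)) = 0 := by
      rw [pow_succ, map_mul, map_mul, mk_X_pow_self, zero_mul, mul_zero]
    have h2 : Ideal.Quotient.mk (Ideal.span {(X : k[X]) ^ n}) (derivative (q * X ^ (n + 1))) = 0 := by
      rw [derivative_mul, derivative_X_pow, Nat.add_sub_cancel, map_add, map_mul, map_mul _ q, map_mul _ (C _),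
        mk_X_pow_self, pow_succ, map_mul, mk_X_pow_self]
      simp
    rw [h1, h2, inl_zero, inr_zero, add_zero]

theorem jetDer_mk (n : ℕ) (p : k[X]) : jetDer k n (Ideal.Quotient.mk _ p) = polyDer k n p := rfl

theorem jetDer_injective [CharZero k] (n : ℕ) (hn : n ≠ 0) : Function.Injective (jetDer k n) := by
  rw [injective_iff_map_eq_zero]
  intro z hz
  obtain ⟨p, rfl⟩ := Ideal.Quotient.mk_surjective z
  rw [jetDer_mk, polyDer_apply] at hz
  have h1 : Ideal.Quotient.mk (Ideal.span {(X : k[X]) ^ n}) p = 0 := by simpa using congrArg TrivSqZeroExt.fst hz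
  have h2 : Ideal.Quotient.mk (Ideal.span {(X : k[X]) ^ n}) (derivative p) = 0 := by simpa using congrArg TrivSqZeroExt.snd hz
  obtain ⟨q, rfl⟩ := Ideal.mem_span_singleton'.1 (Ideal.Quotient.eq_zero_iff_mem.1 h1)
  obtain ⟨s, hs⟩ := Ideal.mem_span_singleton'.1 (Ideal.Quotient.eq_zero_iff_mem.1 h2)
  obtain ⟨m, rfl⟩ : ∃ m, n = m + 1 := ⟨n - 1, by omega⟩
  rw [derivative_mul, derivative_X_pow, Nat.add_sub_cancel] at hs
  have h3 : X ^ m * (C (((m + 1) : ℕ) : k) * q) = X ^ m * (X * (s - derivative q)) := by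
    linear_combination -hs
  have h4 := congrArg (fun f => Polynomial.coeff f 0) (mul_left_cancel₀ (pow_ne_zero m Polynomial.X_ne_zero) h3)
  simp only [Polynomial.coeff_C_mul, Polynomial.mul_coeff_zero, Polynomial.coeff_X_zero, zero_mul, Polynomial.coeff_C_zero] at h4
  obtain ⟨q', rfl⟩ := Polynomial.X_dvd_iff.2 ((mul_eq_zero.1 h4).resolve_left (Nat.cast_ne_zero.2 (Nat.add_one_ne_zero m)))
  refine Ideal.Quotient.eq_zero_iff_mem.2 (Ideal.mem_span_singleton'.2 ⟨q', ?_⟩)
  ring

/-- The ideal of the last but one power. -/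
abbrev lastIdeal (l : ℕ) : Ideal (Jet k l) := Ideal.span {Ideal.Quotient.mk _ (X ^ (l - 1))}

/-- Jets with their truncated derivatives. -/
def jetDerTrunc (l : ℕ) : Jet k l →ₐ[k] TrivSqZeroExt (Jet k l) (Jet k l ⧸ lastIdeal k l) :=
  Ideal.Quotient.liftₐ _
    (((TrivSqZeroExt.map (lastIdeal k l).mkQ).restrictScalars k).comp (polyDer k l)) fun p hp => by
    obtain ⟨q, rfl⟩ := Ideal.mem_span_singleton'.1 hp
    show TrivSqZeroExt.map (lastIdeal k l).mkQ (polyDer k l (q * X ^ l)) = 0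
    rw [polyDer_apply, map_add, TrivSqZeroExt.map_inl, TrivSqZeroExt.map_inr, Submodule.mkQ_apply,
      map_mul _ q, mk_X_pow_self, mul_zero, inl_zero, zero_add]
    refine (congrArg TrivSqZeroExt.inr ?_).trans (TrivSqZeroExt.inr_zero (R := Jet k l) (M := Jet k l ⧸ lastIdeal k l))
    rw [Submodule.Quotient.mk_eq_zero, derivative_mul, derivative_X_pow, map_add, map_mul, map_mul _ q, map_mul _ (C _),
      mk_X_pow_self, mul_zero, zero_add]
    exact Ideal.mul_mem_left _ _ (Ideal.mul_mem_left _ _ (Ideal.subset_span rfl))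

theorem jetDerTrunc_mk (l : ℕ) (p : k[X]) :
    jetDerTrunc k l (Ideal.Quotient.mk _ p) =
      inl (Ideal.Quotient.mk _ p) + inr ((lastIdeal k l).mkQ (Ideal.Quotient.mk _ (derivative p))) := by
  show TrivSqZeroExt.map (lastIdeal k l).mkQ (polyDer k l p) = _
  rw [polyDer_apply, map_add, TrivSqZeroExt.map_inl, TrivSqZeroExt.map_inr]

variable {k} [CharZero k] {R : Type u} [CommRing R] [Algebra k R]

theorem exists_lift_of_t1 {l : ℕ} (hl : l ≠ 0) (φ : R →ₐ[k] Jet k l)
    (hψ : ∃ ψ : R →ₐ[k] TrivSqZeroExt (Jet k l) (Jet k l), ∀ r,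
      (ψ r).fst = (jetDerTrunc k l (φ r)).fst ∧ (lastIdeal k l).mkQ (ψ r).snd = (jetDerTrunc k l (φ r)).snd) :
    ∃ φ' : R →ₐ[k] Jet k (l + 1), (trunc k l).comp φ' = φ := by
  obtain ⟨ψ, hψ⟩ := hψ
  have hmem : ∀ r, ψ r ∈ (jetDer k l).range := by
    intro r
    obtain ⟨a, ha⟩ := Ideal.Quotient.mk_surjective (φ r)
    obtain ⟨h1, h2⟩ := hψ r
    rw [← ha, jetDerTrunc_mk] at h1 h2
    simp only [TrivSqZeroExt.fst_add, TrivSqZeroExt.fst_inl, TrivSqZeroExt.fst_inr, add_zero] at h1
    simp only [TrivSqZeroExt.snd_add, TrivSqZeroExt.snd_inl, TrivSqZeroExt.snd_inr, zero_add] at h2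
    obtain ⟨e, he⟩ := Ideal.Quotient.mk_surjective (ψ r).snd
    rw [← he, ← sub_eq_zero, ← map_sub, ← map_sub, Submodule.mkQ_apply, Submodule.Quotient.mk_eq_zero] at h2
    obtain ⟨g, hg⟩ := Ideal.mem_span_singleton'.1 h2
    obtain ⟨g, rfl⟩ := Ideal.Quotient.mk_surjective g
    rw [← map_mul, Ideal.Quotient.eq] at hg
    obtain ⟨δ, hδ⟩ := Ideal.mem_span_singleton'.1 hg
    obtain ⟨m, rfl⟩ : ∃ m, l = m + 1 := ⟨l - 1, by omega⟩
    rw [Nat.add_sub_cancel] at hδ
    let G := g - X * δ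
    have hG : e - derivative a = X ^ m * G := by
      simp only [G]
      linear_combination hδ
    obtain ⟨G', hG'⟩ := Polynomial.X_dvd_iff.2 (show (G - C (G.coeff 0)).coeff 0 = 0 by simp)
    refine ⟨Ideal.Quotient.mk _ (a + C (G.coeff 0 / (((m + 1) : ℕ) : k)) * X ^ (m + 1)), ?_⟩
    show jetDer k (m + 1) (Ideal.Quotient.mk _ _) = ψ r
    rw [jetDer_mk, polyDer_apply]
    refine TrivSqZeroExt.ext ?_ ?_
    · rw [h1]
      simp [mk_X_pow_self]
    · simp only [TrivSqZeroExt.snd_add, TrivSqZeroExt.snd_inl, TrivSqZeroExt.snd_inr, zero_add]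
      rw [← he, Ideal.Quotient.eq, Ideal.mem_span_singleton']
      refine ⟨-G', ?_⟩
      rw [derivative_add, derivative_C_mul, derivative_X_pow, Nat.add_sub_cancel, ← mul_assoc (C (G.coeff 0 / _)),
        ← map_mul, div_mul_cancel₀ _ (Nat.cast_ne_zero.2 (Nat.add_one_ne_zero m))]
      rw [sub_eq_iff_eq_add] at hG
      rw [hG]
      linear_combination (X : k[X]) ^ m * hG'
  refine ⟨((AlgEquiv.ofInjective (jetDer k l) (jetDer_injective k l hl)).symm.toAlgHom).comp
    (ψ.codRestrict _ hmem), AlgHom.ext fun r => ?_⟩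
  obtain ⟨p, hp⟩ := Ideal.Quotient.mk_surjective
    ((AlgEquiv.ofInjective (jetDer k l) (jetDer_injective k l hl)).symm (ψ.codRestrict _ hmem r))
  show trunc k l ((AlgEquiv.ofInjective (jetDer k l) (jetDer_injective k l hl)).symm (ψ.codRestrict _ hmem r)) = φ r
  have hp' : jetDer k l (Ideal.Quotient.mk _ p) = ψ r := by
    rw [hp]
    exact congrArg Subtype.val
      ((AlgEquiv.ofInjective (jetDer k l) (jetDer_injective k l hl)).apply_symm_apply (ψ.codRestrict _ hmem r))
  rw [← hp]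
  show Ideal.Quotient.mk _ p = φ r
  obtain ⟨a, ha⟩ := Ideal.Quotient.mk_surjective (φ r)
  have h1 := (congrArg TrivSqZeroExt.fst hp').trans (hψ r).1
  rw [← ha, jetDerTrunc_mk, jetDer_mk, polyDer_apply] at h1
  simpa [ha] using h1

omit [CharZero k] in
theorem exists_adjoin_sub_mem_pow [IsLocalRing R] (hres : ∀ r : R, ∃ c : k, r - algebraMap k R c ∈ maximalIdeal R)
    {n : ℕ} (y : Fin n → R) (hy : Ideal.span (Set.range y) = maximalIdeal R) :
    ∀ (L : ℕ) (r : R), ∃ s ∈ Algebra.adjoin k (Set.range y), r - s ∈ maximalIdeal R ^ L := by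
  intro L
  induction L with
  | zero => exact fun r => ⟨0, Subalgebra.zero_mem _, by simp⟩
  | succ L ih =>
    intro r
    obtain ⟨c, hc⟩ := hres r
    rw [← hy] at hc
    obtain ⟨b, hb⟩ := Ideal.mem_span_range_iff_exists_fun.1 hc
    choose s hs hsm using fun i => ih (b i)
    refine ⟨algebraMap k R c + ∑ i, s i * y i, Subalgebra.add_mem _ (Subalgebra.algebraMap_mem _ c)
      (Subalgebra.sum_mem _ fun i _ => Subalgebra.mul_mem _ (hs i) (Algebra.subset_adjoin ⟨i, rfl⟩)), ?_⟩
    rw [← sub_sub, ← hb, ← Finset.sum_sub_distrib, pow_succ]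
    refine Ideal.sum_mem _ fun i _ => ?_
    rw [← sub_mul]
    exact Ideal.mul_mem_mul (hsm i) (hy ▸ Ideal.subset_span ⟨i, rfl⟩)

theorem nonempty_algEquiv_iff_t1 (R : ArtFun.CRing k k) :
    Nonempty (R.carrier ≃ₐ[k] MvPowerSeries
        (Fin (Module.finrank (IsLocalRing.ResidueField R.carrier) (IsLocalRing.CotangentSpace R.carrier))) k) ↔
      ∀ (A : ArtFun.Art k k) (M M' : Type u) [AddCommGroup M] [Module (↥A) M] [Module (↥A)ᵐᵒᵖ M]
        [IsCentralScalar (↥A) M] [Module k M] [IsScalarTower k (↥A) M] [IsScalarTower k (↥A)ᵐᵒᵖ M]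
        [AddCommGroup M'] [Module (↥A) M'] [Module (↥A)ᵐᵒᵖ M'] [IsCentralScalar (↥A) M'] [Module k M']
        [IsScalarTower k (↥A) M'] [IsScalarTower k (↥A)ᵐᵒᵖ M'] (f : M' →ₗ[↥A] M),
        Function.Surjective f →
          ∀ φ : R.carrier →ₐ[k] TrivSqZeroExt (↥A) M,
            ∃ ψ : R.carrier →ₐ[k] TrivSqZeroExt (↥A) M',
              ∀ r : R.carrier, (ψ r).fst = (φ r).fst ∧ f (ψ r).snd = (φ r).snd := by
  classical
  have hres : ∀ r : R.carrier, ∃ c : k, r - algebraMap k R.carrier c ∈ maximalIdeal R.carrier := fun r =>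
    ⟨R.res r, (ArtFun.CRing.mem_maximalIdeal_iff R _).2 (by simp)⟩
  constructor
  · rintro ⟨e⟩ A M M' _ _ _ _ _ _ _ _ _ _ _ _ _ _ f hf φ
    let n := Module.finrank (IsLocalRing.ResidueField R.carrier) (IsLocalRing.CotangentSpace R.carrier)
    let y : Fin n → R.carrier := fun i => e.symm (MvPowerSeries.X i)
    have hy : Ideal.span (Set.range y) = maximalIdeal R.carrier := by
      rw [← IsLocalRing.map_ringEquiv_maximalIdeal e.symm.toRingEquiv, CAlgH3.maximalIdeal_mvPowerSeries_eq,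
        Ideal.map_span, ← Set.range_comp]
      rfl
    obtain ⟨N, hN⟩ := ArtFunLib.maximalIdeal_nilpotent A
    let ρ : TrivSqZeroExt (↥A) M' →ₐ[k] k := A.res.comp (TrivSqZeroExt.fstHom k (↥A) M')
    let I' : Ideal (TrivSqZeroExt (↥A) M') := RingHom.ker ρ.toRingHom
    let ρM : TrivSqZeroExt (↥A) M →ₐ[k] k := A.res.comp (TrivSqZeroExt.fstHom k (↥A) M)
    have hI : I' ^ (N + N) = ⊥ := by
      have h1 : I' ^ N ≤ RingHom.ker (TrivSqZeroExt.fstHom k (↥A) M').toRingHom := by
        rw [← Ideal.map_eq_bot_iff_le_ker, Ideal.map_pow, eq_bot_iff, ← hN]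
        refine Ideal.pow_right_mono (Ideal.map_le_iff_le_comap.2 fun z hz => ?_) N
        exact (ArtFun.Art.mem_maximalIdeal_iff A _).2 hz
      rw [pow_add, eq_bot_iff, Ideal.mul_le]
      intro a ha b hb
      have ha' : a.fst = 0 := h1 ha
      have hb' : b.fst = 0 := h1 hb
      rw [Submodule.mem_bot]
      ext <;> simp [ha', hb']
    haveI : IsAdicComplete I' (TrivSqZeroExt (↥A) M') := ArtFunLib.isAdicComplete_of_pow_eq_bot hI
    choose w hw using fun i => hf (φ (y i)).snd
    obtain ⟨g, hgC, hgX⟩ := CAlgH.exists_mvPowerSeries_eval (algebraMap k (TrivSqZeroExt (↥A) M')) I'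
      (fun i => inl (φ (y i)).fst + inr (w i)) (fun i => by
        show A.res ((inl (φ (y i)).fst + inr (w i) : TrivSqZeroExt (↥A) M')).fst = 0
        simp only [TrivSqZeroExt.fst_add, TrivSqZeroExt.fst_inl, TrivSqZeroExt.fst_inr, add_zero]
        exact map_mem_ker ρM φ (hy ▸ Ideal.subset_span ⟨i, rfl⟩))
    let g' : MvPowerSeries (Fin n) k →ₐ[k] TrivSqZeroExt (↥A) M' :=
      { g with commutes' := fun c => RingHom.congr_fun hgC c }
    let ψ := g'.comp e.toAlgHom
    refine ⟨ψ, fun r => ?_⟩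
    let π : TrivSqZeroExt (↥A) M' →ₐ[k] TrivSqZeroExt (↥A) M := (TrivSqZeroExt.map f).restrictScalars k
    have hπ : ∀ z, π z = TrivSqZeroExt.map f z := fun _ => rfl
    have heq : π (ψ r) = φ r := by
      obtain ⟨s, hs, hrs⟩ := exists_adjoin_sub_mem_pow hres y hy (N + N) r
      have h1 : π (ψ s) = φ s := by
        refine (AlgHom.mem_equalizer (π.comp ψ) φ s).1 (Algebra.adjoin_le ?_ hs)
        rintro _ ⟨i, rfl⟩
        show π (g (e (e.symm (MvPowerSeries.X i)))) = φ (y i)
        rw [e.apply_symm_apply, hgX, hπ, map_add, TrivSqZeroExt.map_inl, TrivSqZeroExt.map_inr, hw,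
          TrivSqZeroExt.inl_fst_add_inr_snd_eq]
      have h2 : ψ (r - s) = 0 := by
        have : (maximalIdeal R.carrier).map ψ ≤ I' := Ideal.map_le_iff_le_comap.2 fun z hz => map_mem_ker ρ ψ hz
        have h3 := Ideal.pow_right_mono this (N + N) (Ideal.map_pow ψ _ _ ▸ Ideal.mem_map_of_mem ψ hrs)
        rwa [hI, Submodule.mem_bot] at h3
      have h4 : φ (r - s) = 0 := by
        have hker : (maximalIdeal R.carrier).map φ ≤ RingHom.ker ρM.toRingHom :=
          Ideal.map_le_iff_le_comap.2 fun z hz => map_mem_ker ρM φ hz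
        have h3 := Ideal.pow_right_mono hker (N + N) (Ideal.map_pow φ _ _ ▸ Ideal.mem_map_of_mem φ hrs)
        have hIM : RingHom.ker ρM.toRingHom ^ (N + N) = ⊥ := by
          have h1 : RingHom.ker ρM.toRingHom ^ N ≤ RingHom.ker (TrivSqZeroExt.fstHom k (↥A) M).toRingHom := by
            rw [← Ideal.map_eq_bot_iff_le_ker, Ideal.map_pow, eq_bot_iff, ← hN]
            refine Ideal.pow_right_mono (Ideal.map_le_iff_le_comap.2 fun z hz => ?_) N
            exact (ArtFun.Art.mem_maximalIdeal_iff A _).2 hz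
          rw [pow_add, eq_bot_iff, Ideal.mul_le]
          intro a ha b hb
          have ha' : a.fst = 0 := h1 ha
          have hb' : b.fst = 0 := h1 hb
          rw [Submodule.mem_bot]
          ext <;> simp [ha', hb']
        rwa [hIM, Submodule.mem_bot] at h3
      rw [map_sub, sub_eq_zero] at h2 h4
      rw [h2, h4, h1]
    refine ⟨?_, ?_⟩
    · rw [← heq, hπ]; exact (TrivSqZeroExt.fst_map f (ψ r)).symm
    · rw [← heq, hπ]; exact (TrivSqZeroExt.snd_map f (ψ r)).symm
  · intro hT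
    haveI : Infinite k := Infinite.of_injective _ (Nat.cast_injective (R := k))
    haveI := R.isAdicComplete
    haveI hreg : IsRegularLocalRing R.carrier := by
      refine isRegularLocalRing_of_jets_lift hres fun l hl φ => ?_
      have hl0 : l ≠ 0 := by omega
      haveI := isLocalRing_jet k l hl0
      haveI := finite_jet k l
      haveI : IsArtinianRing (Jet k l) := IsArtinianRing.of_finite k _
      refine exists_lift_of_t1 hl0 φ ?_
      have hT' : ∀ (A : ArtFun.Art k k) (I : Ideal A) (φ : R.carrier →ₐ[k] TrivSqZeroExt A (A ⧸ I)),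
          ∃ ψ : R.carrier →ₐ[k] TrivSqZeroExt A A, ∀ r, (ψ r).fst = (φ r).fst ∧ I.mkQ (ψ r).snd = (φ r).snd :=
        fun A I φ => hT A (A ⧸ I) A I.mkQ (Submodule.mkQ_surjective _) φ
      exact hT' (ArtFun.Art.of (Jet k l) (jetRes k l hl0) (jetRes_surjective k l hl0)) (lastIdeal k l)
        ((jetDerTrunc k l).comp φ)
    obtain ⟨d, e, he⟩ := CAlgH.exists_equiv_mvPowerSeries_of_coefficient (algebraMap k R.carrier) fun z => by
      obtain ⟨r, rfl⟩ := IsLocalRing.residue_surjective z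
      obtain ⟨c, hc⟩ := hres r
      exact ⟨c, (Ideal.Quotient.eq.2 hc).symm⟩
    have hd : d = Module.finrank (IsLocalRing.ResidueField R.carrier) (IsLocalRing.CotangentSpace R.carrier) := by
      have h1 := (IsRegularLocalRing.iff_finrank_cotangentSpace R.carrier).1 hreg
      rw [← ringKrullDim_eq_of_ringEquiv e, le_antisymm (CommAlg6.ringKrullDim_mvPowerSeries_field k d)
        (CAlgH.AdicSmooth.le_ringKrullDim_mvPowerSeries k d)] at h1
      exact_mod_cast h1.symm
    subst hd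
    exact ⟨(AlgEquiv.ofRingEquiv (f := e) fun c => he c).symm⟩

end Groth.Agent.JetLib29
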